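import Mathlib
import Groth.Prelude.Def_CAlg
import Groth.Agent.Depth.FlatLocal

/-!
# Reduced rings are the rings with R₀ and S₁
-/

universe u

open LocCoh

set_option linter.style.haveILetI false

namespace Groth.Agent.SerreLib

variable {R : Type u} [CommRing R]

theorem hasSk_localRing_iff (k : ℕ) :
    HasSk k R R ↔ ∀ (p : Ideal R) [p.IsPrime],
      min (k : WithBot ℕ∞) (ringKrullDim (Localization.AtPrime p)) ≤
        ((depth (Localization.AtPrime p) (Localization.AtPrime p) : ℕ∞) : WithBot ℕ∞) := by
  unfold HasSk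
  refine forall₂_congr fun p _ => ?_
  rw [Depth.supportDim_localizedSelf, Depth.depth_localizedSelf]

theorem isField_localization_of_mem_minimalPrimes [IsNoetherianRing R] [IsReduced R] {p : Ideal R}
    [p.IsPrime] (hp : p.height = 0) : IsField (Localization.AtPrime p) := by
  have : Ring.KrullDimLE 0 (Localization.AtPrime p) :=
    (Ring.krullDimLE_iff).mpr (by rw [IsLocalization.AtPrime.ringKrullDim_eq_height p, hp]; rfl)
  have := IsLocalization.isNoetherianRing p.primeCompl (Localization.AtPrime p) inferInstance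
  have : IsArtinianRing (Localization.AtPrime p) := isArtinianRing_iff_krullDimLE_zero.mpr inferInstance
  exact IsArtinianRing.isField_of_isReduced_of_isLocalRing _

theorem isField_localization_of_hasRk_zero [IsNoetherianRing R] (h : HasRk 0 R) {p : Ideal R}
    [p.IsPrime] (hp : p.height = 0) : IsField (Localization.AtPrime p) := by
  have := h p (by rw [hp]; exact le_rfl)
  have : Ring.KrullDimLE 0 (Localization.AtPrime p) :=
    (Ring.krullDimLE_iff).mpr (by rw [IsLocalization.AtPrime.ringKrullDim_eq_height p, hp]; rfl)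
  have := RegLocal.isDomain (Localization.AtPrime p)
  have := IsLocalization.isNoetherianRing p.primeCompl (Localization.AtPrime p) inferInstance
  have : IsArtinianRing (Localization.AtPrime p) := isArtinianRing_iff_krullDimLE_zero.mpr inferInstance
  exact IsArtinianRing.isField_of_isReduced_of_isLocalRing _

theorem hasRk_zero_of_isReduced [IsNoetherianRing R] [IsReduced R] : HasRk 0 R := fun p _ hp => by
  letI := (isField_localization_of_mem_minimalPrimes (nonpos_iff_eq_zero.mp hp)).toField
  infer_instance

theorem hasSk_one_of_associatedPrimes [IsNoetherianRing R]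
    (h : ∀ p ∈ associatedPrimes R R, p.height = 0) : HasSk 1 R R := by
  rw [hasSk_localRing_iff]
  intro p _
  rcases eq_or_ne (depth (Localization.AtPrime p) (Localization.AtPrime p)) 0 with h0 | h0
  · have := h p ((Depth.mem_associatedPrimes_iff_depth_eq_zero p).mpr h0)
    rw [IsLocalization.AtPrime.ringKrullDim_eq_height p, this, h0]
    exact min_le_right _ _
  · refine (min_le_left _ _).trans ?_
    exact_mod_cast ENat.one_le_iff_ne_zero.mpr h0

theorem height_eq_zero_of_hasSk_one [IsNoetherianRing R] (h : HasSk 1 R R) {p : Ideal R}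
    (hp : p ∈ associatedPrimes R R) : p.height = 0 := by
  have := hp.isPrime
  have h1 := (hasSk_localRing_iff 1).mp h p
  rw [(Depth.mem_associatedPrimes_iff_depth_eq_zero p).mp hp,
    IsLocalization.AtPrime.ringKrullDim_eq_height p] at h1
  by_contra hne
  have h2 : (1 : WithBot ℕ∞) ≤ (p.height : WithBot ℕ∞) := by
    exact_mod_cast ENat.one_le_iff_ne_zero.mpr hne
  rw [Nat.cast_one, min_eq_left h2] at h1
  exact absurd h1 (by simp)

theorem height_eq_zero_of_isReduced [IsNoetherianRing R] [IsReduced R] {p : Ideal R}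
    (hp : p ∈ associatedPrimes R R) : p.height = 0 := by
  obtain ⟨hpr, x, hx⟩ := isAssociatedPrime_iff.mp (AssociatedPrimes.mem_iff.mp hp)
  have hx0 : x ≠ 0 := fun h0 => hpr.ne_top (hx.trans (eq_top_iff.mpr fun r _ => by
    rw [Submodule.mem_colon_singleton, h0, smul_zero]; exact zero_mem _))
  obtain ⟨q, hq, hxq⟩ : ∃ q ∈ minimalPrimes R, x ∉ q := by
    by_contra! hcon
    refine hx0 ?_
    have : x ∈ nilradical R := by
      rw [nilradical, ← Ideal.sInf_minimalPrimes]
      exact Submodule.mem_sInf.mpr hcon
    exact IsNilpotent.eq_zero (mem_nilradical.mp this)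
  have := hq.1.1
  have hpq : p ≤ q := fun r hr => by
    rw [hx, Submodule.mem_colon_singleton, Submodule.mem_bot, smul_eq_mul] at hr
    exact (hq.1.1.mem_or_mem (hr ▸ q.zero_mem)).resolve_right hxq
  have hqp : q = p := le_antisymm (hq.2 ⟨hpr, bot_le⟩ hpq) hpq
  subst hqp
  exact Ideal.height_eq_zero_iff.mpr hq

theorem isReduced_of_R0_S1 [IsNoetherianRing R] (h0 : HasRk 0 R) (h1 : HasSk 1 R R) : IsReduced R := by
  refine ⟨fun x hx => by_contra fun hne => ?_⟩
  obtain ⟨p, hp, hle⟩ := exists_le_isAssociatedPrime_of_isNoetherianRing R x hne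
  have := hp.isPrime
  letI := (isField_localization_of_hasRk_zero h0 (height_eq_zero_of_hasSk_one h1 hp)).toField
  have h2 : algebraMap R (Localization.AtPrime p) x = 0 :=
    IsNilpotent.eq_zero (hx.map (algebraMap R (Localization.AtPrime p)))
  obtain ⟨⟨s, hs⟩, hsx⟩ := (IsLocalization.map_eq_zero_iff p.primeCompl (Localization.AtPrime p) x).mp h2
  exact hs (hle (by rw [Submodule.mem_colon_singleton, Submodule.mem_bot]; exact hsx))

theorem reduced_iff [IsNoetherianRing R] : IsReduced R ↔ HasRk 0 R ∧ HasSk 1 R R :=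
  ⟨fun _ => ⟨hasRk_zero_of_isReduced, hasSk_one_of_associatedPrimes fun _ hp => height_eq_zero_of_isReduced hp⟩,
    fun h => isReduced_of_R0_S1 h.1 h.2⟩

end Groth.Agent.SerreLib
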