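import Mathlib
import Groth.Agent.SerreLib.R0S1
import Groth.Agent.CAlgBasics.Depth
import Groth.Agent.RegLocal.UFD

/-!
# Serre's criterion for normality
-/

universe u

open LocCoh Polynomial

set_option linter.style.haveILetI false

namespace Groth.Agent.SerreLib

open IsLocalRing in
theorem two_le_depth_of_normal {A : Type u} [CommRing A] [IsDomain A] [IsLocalRing A] [IsNoetherianRing A]
    [IsIntegrallyClosed A] (hd : 1 < ringKrullDim A) : 2 ≤ depth A A := by
  rw [CAlgBasics.two_le_depth_iff]
  refine ⟨fun x hx => by_contra fun h => ?_, fun r hr hreg z hz => ?_⟩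
  · have hbot : maximalIdeal A = ⊥ := (Submodule.eq_bot_iff _).mpr fun a ha =>
      (mul_eq_zero.mp (hx a ha)).resolve_right h
    rw [ringKrullDim_eq_zero_of_isField (isField_iff_maximalIdeal_eq.mpr hbot)] at hd
    exact not_lt_of_ge zero_le_one hd
  · have hr0 : r ≠ 0 := fun h => one_ne_zero (hreg (show r • (1 : A) = r • (0 : A) by simp [h]))
    choose w hw using hz
    by_cases hall : ∀ a (ha : a ∈ maximalIdeal A), w a ha ∈ maximalIdeal A
    · let K := FractionRing A
      let x : K := algebraMap A K z / algebraMap A K r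
      have hrK : algebraMap A K r ≠ 0 := by simpa using hr0
      have hint : IsIntegral A x := by
        refine isIntegral_of_smul_mem_submodule (Submodule.map (Algebra.linearMap A K) (maximalIdeal A)) ?_
          (Submodule.FG.map _ (IsNoetherian.noetherian _)) x ?_
        · intro h
          refine hr0 ?_
          have := Submodule.mem_map_of_mem (f := Algebra.linearMap A K) hr
          rw [h, Submodule.mem_bot] at this
          simpa using this
        · rintro _ ⟨a, ha, rfl⟩
          refine ⟨w a ha, hall a ha, ?_⟩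
          have := congrArg (algebraMap A K) (hw a ha)
          simp only [smul_eq_mul, map_mul] at this
          simp only [x, Algebra.linearMap_apply, smul_eq_mul]
          rw [div_mul_eq_mul_div, eq_div_iff hrK, mul_comm _ (algebraMap A K a), this, mul_comm]
      obtain ⟨y, hy⟩ := IsIntegrallyClosed.isIntegral_iff.mp hint
      refine ⟨y, IsFractionRing.injective A K ?_⟩
      rw [smul_eq_mul, map_mul, hy]
      simp only [x]
      rw [mul_div_cancel₀ _ hrK]
    · exfalso
      push Not at hall
      obtain ⟨a, ha, hau⟩ := hall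
      obtain ⟨u, hu⟩ := IsLocalRing.notMem_maximalIdeal.mp hau
      have hmax : maximalIdeal A ≤ Ideal.span {a} := fun c hc => by
        refine Ideal.mem_span_singleton.mpr ⟨w c hc * ↑u⁻¹, ?_⟩
        have h1 := hw a ha
        have h2 := hw c hc
        simp only [smul_eq_mul] at h1 h2
        have h3 : a * w c hc = c * ↑u := mul_left_cancel₀ hr0 (by
          rw [hu, ← mul_assoc, mul_comm r a, mul_assoc, ← h2, ← mul_assoc r, mul_comm r c, mul_assoc, ← h1]
          ring)
        rw [← mul_assoc, h3, mul_assoc, Units.mul_inv, mul_one]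
      have heq : maximalIdeal A = Ideal.span {a} :=
        le_antisymm hmax ((Ideal.span_singleton_le_iff_mem _).mpr ha)
      have hle : (maximalIdeal A).height ≤ 1 :=
        Ideal.height_le_one_of_isPrincipal_of_mem_minimalPrimes (Ideal.span {a}) (maximalIdeal A)
          (by rw [← heq]; simp [Ideal.minimalPrimes_eq_subsingleton_self])
      rw [← IsLocalRing.maximalIdeal_height_eq_ringKrullDim] at hd
      exact not_lt_of_ge (by exact_mod_cast hle) hd

/-- `a / b` is integral, written without denominators. -/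
theorem dvd_of_scaleRoots {A : Type u} [CommRing A] [IsDomain A] [IsIntegrallyClosed A] {a b : A} (hb : b ≠ 0)
    {P : A[X]} (hP : P.Monic) (h : (P.scaleRoots b).eval a = 0) : b ∣ a := by
  let K := FractionRing A
  have hbK : algebraMap A K b ≠ 0 := by simpa using hb
  have hint : IsIntegral A (algebraMap A K a / algebraMap A K b) := by
    refine ⟨P, hP, ?_⟩
    have h1 := scaleRoots_eval₂_mul (p := P) (algebraMap A K) (algebraMap A K a / algebraMap A K b) b
    rw [mul_div_cancel₀ _ hbK, Polynomial.eval₂_at_apply, h, map_zero] at h1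
    exact (mul_eq_zero.mp h1.symm).resolve_left (pow_ne_zero _ hbK)
  obtain ⟨y, hy⟩ := IsIntegrallyClosed.isIntegral_iff.mp hint
  refine ⟨y, IsFractionRing.injective A K ?_⟩
  rw [map_mul, hy, mul_div_cancel₀ _ hbK]

theorem map_eval_scaleRoots {R S : Type*} [CommRing R] [CommRing S] [Nontrivial S] (f : R →+* S) {P : R[X]}
    (hP : P.Monic) (a b : R) :
    f ((P.scaleRoots b).eval a) = ((P.map f).scaleRoots (f b)).eval (f a) := by
  rw [← map_scaleRoots _ _ _ (by rw [hP.leadingCoeff, map_one]; exact one_ne_zero), eval_map, eval₂_at_apply]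

variable {R : Type u} [CommRing R] [IsNoetherianRing R]

theorem hasRk_one_and_hasSk_two_of_normal
    (h : ∀ (p : Ideal R) [p.IsPrime], IsDomain (Localization.AtPrime p) ∧
      IsIntegrallyClosed (Localization.AtPrime p)) : HasRk 1 R ∧ HasSk 2 R R := by
  constructor
  · intro p _ hp
    obtain ⟨_, _⟩ := h p
    have := IsLocalization.isNoetherianRing p.primeCompl (Localization.AtPrime p) inferInstance
    by_cases hf : IsField (Localization.AtPrime p)
    · letI := hf.toField; infer_instance
    · have : Ring.KrullDimLE 1 (Localization.AtPrime p) := Ring.krullDimLE_iff.mpr (by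
        rw [IsLocalization.AtPrime.ringKrullDim_eq_height p]; exact_mod_cast hp)
      have : Ring.DimensionLEOne (Localization.AtPrime p) := ⟨fun hne hpr => hpr.isMaximal_of_ne_bot hne⟩
      have : IsDedekindDomain (Localization.AtPrime p) := { (inferInstance : IsDomain _) with }
      have := ((IsDiscreteValuationRing.TFAE (Localization.AtPrime p) hf).out 2 0 rfl rfl).mp this
      infer_instance
  · rw [hasSk_localRing_iff]
    intro p _
    obtain ⟨_, _⟩ := h p
    have := IsLocalization.isNoetherianRing p.primeCompl (Localization.AtPrime p) inferInstance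
    rw [IsLocalization.AtPrime.ringKrullDim_eq_height p]
    rcases lt_or_ge (1 : ℕ∞) p.height with h2 | h1
    · refine (min_le_left _ _).trans ?_
      have := two_le_depth_of_normal (A := Localization.AtPrime p)
        (by rw [IsLocalization.AtPrime.ringKrullDim_eq_height p]; exact_mod_cast h2)
      exact WithBot.coe_le_coe.mpr this
    · refine (min_le_right _ _).trans ?_
      rcases eq_or_ne p.height 0 with h0 | h0
      · rw [h0]; exact WithBot.coe_le_coe.mpr zero_le
      · refine le_trans (WithBot.coe_le_coe.mpr h1) (WithBot.coe_le_coe.mpr ?_)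
        rw [CAlgBasics.one_le_depth_iff]
        intro x hx
        by_contra hne
        have hbot : IsLocalRing.maximalIdeal (Localization.AtPrime p) = ⊥ := (Submodule.eq_bot_iff _).mpr fun a ha =>
          (mul_eq_zero.mp (hx a ha)).resolve_right hne
        have := ringKrullDim_eq_zero_of_isField (IsLocalRing.isField_iff_maximalIdeal_eq.mpr hbot)
        rw [IsLocalization.AtPrime.ringKrullDim_eq_height p] at this
        exact h0 (WithBot.coe_inj.mp this)

theorem dvd_of_R1_S2 (h1 : HasRk 1 R) (h2 : HasSk 2 R R) {a b : R} (hb : b ∈ nonZeroDivisors R)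
    {P : R[X]} (hP : P.Monic) (h : (P.scaleRoots b).eval a = 0) : b ∣ a := by
  by_contra hne
  have ha : Ideal.Quotient.mk (Ideal.span {b}) a ≠ 0 := fun h0 =>
    hne (Ideal.mem_span_singleton.mp (Ideal.Quotient.eq_zero_iff_mem.mp h0))
  obtain ⟨p, hp, hle⟩ := exists_le_isAssociatedPrime_of_isNoetherianRing R _ ha
  obtain ⟨hpr, z, hz⟩ := isAssociatedPrime_iff.mp hp
  obtain ⟨z, rfl⟩ := Ideal.Quotient.mk_surjective z
  have hmem : ∀ r, r ∈ p ↔ b ∣ r * z := fun r => by
    rw [hz, Submodule.mem_colon_singleton, Submodule.mem_bot, ← Ideal.mem_span_singleton,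
      ← Ideal.Quotient.eq_zero_iff_mem]
    rfl
  have hreg : IsSMulRegular (Localization.AtPrime p) (algebraMap R (Localization.AtPrime p) b) := by
    intro x y hxy
    obtain ⟨r, s, rfl⟩ := IsLocalization.exists_mk'_eq p.primeCompl x
    obtain ⟨r', s', rfl⟩ := IsLocalization.exists_mk'_eq p.primeCompl y
    replace hxy : algebraMap R (Localization.AtPrime p) b * IsLocalization.mk' _ r s =
        algebraMap R (Localization.AtPrime p) b * IsLocalization.mk' _ r' s' := hxy
    rw [IsLocalization.mul_mk'_eq_mk'_of_mul, IsLocalization.mul_mk'_eq_mk'_of_mul, IsLocalization.eq] at hxy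
    obtain ⟨t, ht⟩ := hxy
    refine IsLocalization.eq.mpr ⟨t, ?_⟩
    apply (mul_cancel_left_mem_nonZeroDivisors hb).mp
    linear_combination ht
  have hbp : b ∈ p := (hmem b).mpr ⟨z, rfl⟩
  have hdepth : ¬ 2 ≤ depth (Localization.AtPrime p) (Localization.AtPrime p) := by
    intro h2'
    obtain ⟨w, hw⟩ := (CAlgBasics.two_le_depth_iff.mp h2').2 (algebraMap R _ b)
      ((IsLocalization.AtPrime.to_map_mem_maximal_iff (Localization.AtPrime p) p b).mpr hbp) hreg
      (algebraMap R _ z) fun c hc => by
        obtain ⟨r, s, rfl⟩ := IsLocalization.exists_mk'_eq p.primeCompl c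
        obtain ⟨v, hv⟩ := (hmem r).mp ((IsLocalization.AtPrime.mk'_mem_maximal_iff _ p r s).mp hc)
        refine ⟨IsLocalization.mk' _ v s, ?_⟩
        rw [smul_eq_mul, smul_eq_mul, mul_comm, IsLocalization.mul_mk'_eq_mk'_of_mul,
          IsLocalization.mul_mk'_eq_mk'_of_mul, ← hv, mul_comm z r]
    obtain ⟨r, s, rfl⟩ := IsLocalization.exists_mk'_eq p.primeCompl w
    rw [smul_eq_mul, IsLocalization.mul_mk'_eq_mk'_of_mul, IsLocalization.eq_mk'_iff_mul_eq, ← map_mul,
      IsLocalization.eq_iff_exists p.primeCompl] at hw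
    obtain ⟨t, ht⟩ := hw
    refine (t * s : p.primeCompl).2 ((hmem _).mpr ⟨t * r, ?_⟩)
    show (t : R) * s * z = b * (t * r)
    linear_combination ht
  have hht : p.height ≤ 1 := by
    by_contra hlt
    refine hdepth ?_
    have h3 := (hasSk_localRing_iff 2).mp h2 p
    rw [IsLocalization.AtPrime.ringKrullDim_eq_height p] at h3
    have h4 : (2 : WithBot ℕ∞) ≤ (p.height : WithBot ℕ∞) := by
      refine WithBot.coe_le_coe.mpr ?_
      exact Order.add_one_le_of_lt (not_le.mp hlt)
    rw [Nat.cast_ofNat, min_eq_left h4] at h3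
    exact WithBot.coe_le_coe.mp h3
  have := h1 p (by exact_mod_cast hht)
  have := RegLocal.isDomain (Localization.AtPrime p)
  have := RegLocal.ufd (Localization.AtPrime p)
  have hb0 : algebraMap R (Localization.AtPrime p) b ≠ 0 := fun h0 =>
    one_ne_zero (hreg (show algebraMap R (Localization.AtPrime p) b • (1 : Localization.AtPrime p) =
      algebraMap R (Localization.AtPrime p) b • 0 by simp [h0]))
  obtain ⟨w, hw⟩ := dvd_of_scaleRoots hb0 (hP.map (algebraMap R (Localization.AtPrime p)))
    (a := algebraMap R _ a) (by rw [← map_eval_scaleRoots _ hP, h, map_zero])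
  obtain ⟨r, s, rfl⟩ := IsLocalization.exists_mk'_eq p.primeCompl w
  rw [IsLocalization.mul_mk'_eq_mk'_of_mul, IsLocalization.eq_mk'_iff_mul_eq, ← map_mul,
    IsLocalization.eq_iff_exists p.primeCompl] at hw
  obtain ⟨t, ht⟩ := hw
  refine (t * s : p.primeCompl).2 (hle ?_)
  rw [Submodule.mem_colon_singleton, Submodule.mem_bot]
  show Ideal.Quotient.mk _ ((t : R) * s * a) = 0
  rw [Ideal.Quotient.eq_zero_iff_mem, Ideal.mem_span_singleton]
  exact ⟨t * r, by linear_combination ht⟩

omit [IsNoetherianRing R] in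
theorem isUnit_or_mem_minimalPrimes_of_notMem [IsReduced R] {b : R} (hb : ∀ q ∈ minimalPrimes R, b ∉ q) :
    b ∈ nonZeroDivisors R := by
  refine mem_nonZeroDivisors_iff_right.mpr fun x hx => IsNilpotent.eq_zero ?_
  rw [← mem_nilradical, nilradical, ← Ideal.sInf_minimalPrimes, Submodule.mem_sInf]
  exact fun q hq => (hq.1.1.mem_or_mem (hx ▸ q.zero_mem)).resolve_right (hb q hq)

omit [IsNoetherianRing R] in
theorem eq_zero_of_forall_minimalPrimes [IsReduced R] {x : R} (h : ∀ q ∈ minimalPrimes R, x ∈ q) : x = 0 :=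
  IsNilpotent.eq_zero (by rw [← mem_nilradical, nilradical, ← Ideal.sInf_minimalPrimes, Submodule.mem_sInf]; exact h)

theorem exists_idempotent (h1 : HasRk 1 R) (h2 : HasSk 2 R R) [IsReduced R] {q : Ideal R} (hq : q ∈ minimalPrimes R) :
    ∃ e : R, e ∈ q ∧ ∀ q' ∈ minimalPrimes R, q' ≠ q → 1 - e ∈ q' := by
  classical
  have hfin := minimalPrimes.finite_of_isNoetherianRing R
  let T := hfin.toFinset.erase q
  have hT : ∀ {x}, x ∈ T ↔ x ≠ q ∧ x ∈ minimalPrimes R := by simp [T]
  obtain ⟨a, haq, ha⟩ : ∃ a ∈ q, ∀ q' ∈ T, a ∉ q' := by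
    by_contra! hc
    have hsub : (q : Set R) ⊆ ⋃ i ∈ (↑T : Set (Ideal R)), (i : Set R) := fun x hx => by
      obtain ⟨i, hi, hxi⟩ := hc x hx
      exact Set.mem_biUnion hi hxi
    obtain ⟨i, hi, hle⟩ := (Ideal.subset_union_prime ⊥ ⊥ fun i hi _ _ => (hT.mp hi).2.1.1).mp hsub
    exact (hT.mp hi).1 (le_antisymm ((hT.mp hi).2.2 hq.1 hle) hle)
  obtain ⟨a', ha'q, ha'⟩ : ∃ a', a' ∉ q ∧ ∀ q' ∈ T, a' ∈ q' := by
    by_contra! hc
    have : T.inf id ≤ q := fun x hx => by
      by_contra hxq
      obtain ⟨i, hi, hxi⟩ := hc x hxq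
      exact hxi (Submodule.mem_finsetInf.mp hx i hi)
    obtain ⟨i, hi, hle⟩ := (Ideal.IsPrime.inf_le' hq.1.1).mp this
    exact (hT.mp hi).1 (le_antisymm hle (hq.2 (hT.mp hi).2.1 hle))
  have hb : a + a' ∈ nonZeroDivisors R := isUnit_or_mem_minimalPrimes_of_notMem fun q' hq' hmem => by
    rcases eq_or_ne q' q with rfl | hne
    · exact ha'q ((q'.add_mem_iff_right haq).mp hmem)
    · exact ha q' (hT.mpr ⟨hne, hq'⟩) ((q'.add_mem_iff_left (ha' q' (hT.mpr ⟨hne, hq'⟩))).mp hmem)
  have haa : a * a' = 0 := eq_zero_of_forall_minimalPrimes fun q' hq' => by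
    rcases eq_or_ne q' q with rfl | hne
    · exact q'.mul_mem_right _ haq
    · exact q'.mul_mem_left _ (ha' q' (hT.mpr ⟨hne, hq'⟩))
  obtain ⟨e, he⟩ := dvd_of_R1_S2 h1 h2 hb (P := X ^ 2 - X) (a := a)
    (monic_X_pow_sub (n := 2) (degree_X_le.trans_lt (by norm_num))) (by
      have hdeg : (X ^ 2 - X : R[X]).natDegree = 2 ∨ Subsingleton R := by
        rcases subsingleton_or_nontrivial R with h | h
        · exact Or.inr h
        · exact Or.inl (by rw [natDegree_sub_eq_left_of_natDegree_lt] <;> simp)
      rcases hdeg with hdeg | _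
      · rw [eval_eq_sum_range, natDegree_scaleRoots, hdeg, Finset.sum_range_succ, Finset.sum_range_succ,
          Finset.sum_range_one]
        simp [coeff_scaleRoots, hdeg, coeff_X, coeff_X_pow]
        linear_combination -haa
      · exact Subsingleton.elim _ _)
  refine ⟨e, ?_, fun q' hq' hne => ?_⟩
  · exact (hq.1.1.mem_or_mem (he ▸ haq)).resolve_left fun h => ha'q ((q.add_mem_iff_right haq).mp h)
  · have h3 : (a + a') * (1 - e) ∈ q' := by
      rw [mul_sub, mul_one, ← he, add_sub_cancel_left]
      exact ha' q' (hT.mpr ⟨hne, hq'⟩)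
    exact (hq'.1.1.mem_or_mem h3).resolve_left fun h =>
      ha q' (hT.mpr ⟨hne, hq'⟩) ((q'.add_mem_iff_left (ha' q' (hT.mpr ⟨hne, hq'⟩))).mp h)

theorem normal_of_R1_S2 (h1 : HasRk 1 R) (h2 : HasSk 2 R R) (p : Ideal R) [p.IsPrime] :
    IsDomain (Localization.AtPrime p) ∧ IsIntegrallyClosed (Localization.AtPrime p) := by
  classical
  have hred : IsReduced R := isReduced_of_R0_S1 (fun p _ hp => h1 p (hp.trans (by simp)))
    (fun p _ => le_trans (min_le_min (by exact_mod_cast one_le_two) le_rfl) (h2 p))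
  obtain ⟨q, hq, hqp⟩ := Ideal.exists_minimalPrimes_le (bot_le : (⊥ : Ideal R) ≤ p)
  obtain ⟨e, heq, he⟩ := exists_idempotent h1 h2 hq
  set φ := algebraMap R (Localization.AtPrime p)
  have hker : ∀ x, φ x = 0 ↔ x ∈ q := fun x => by
    rw [IsLocalization.map_eq_zero_iff p.primeCompl]
    refine ⟨fun ⟨s, hs⟩ => (hq.1.1.mem_or_mem (hs ▸ q.zero_mem)).resolve_left fun h => s.2 (hqp h), fun hx => ?_⟩
    refine ⟨⟨1 - e, fun h => ‹p.IsPrime›.ne_top ((Ideal.eq_top_iff_one _).mpr ?_)⟩, ?_⟩
    · simpa using p.add_mem h (hqp heq)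
    · refine eq_zero_of_forall_minimalPrimes fun q' hq' => ?_
      rcases eq_or_ne q' q with rfl | hne
      · exact q'.mul_mem_left _ hx
      · exact q'.mul_mem_right _ (he q' hq' hne)
  have hdom : IsDomain (Localization.AtPrime p) := by
    refine @NoZeroDivisors.to_isDomain _ _ _ ⟨fun {x y} hxy => ?_⟩
    obtain ⟨r, s, rfl⟩ := IsLocalization.exists_mk'_eq p.primeCompl x
    obtain ⟨r', s', rfl⟩ := IsLocalization.exists_mk'_eq p.primeCompl y
    rw [← IsLocalization.mk'_mul] at hxy
    have h0 : φ (r * r') = 0 := by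
      rw [← IsLocalization.mk'_spec (Localization.AtPrime p) (r * r') (s * s'), hxy, zero_mul]
    rcases hq.1.1.mem_or_mem ((hker _).mp h0) with hr | hr <;> [left; right] <;>
      rw [IsLocalization.mk'_eq_zero_iff, ← IsLocalization.map_eq_zero_iff p.primeCompl (Localization.AtPrime p)] <;>
      exact (hker _).mpr hr
  refine ⟨hdom, ?_⟩
  let K := FractionRing (Localization.AtPrime p)
  rw [isIntegrallyClosed_iff K]
  intro x hx
  obtain ⟨t, ht⟩ := IsIntegral.exists_multiple_integral_of_isLocalization p.primeCompl x hx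
  obtain ⟨A', B', hB', hx'⟩ := IsFractionRing.div_surjective (A := Localization.AtPrime p) x
  obtain ⟨a, s₁, rfl⟩ := IsLocalization.exists_mk'_eq p.primeCompl A'
  obtain ⟨b, s₂, rfl⟩ := IsLocalization.exists_mk'_eq p.primeCompl B'
  let ψ : R →+* K := (algebraMap (Localization.AtPrime p) K).comp φ
  have hψ : ∀ r, ψ r = 0 ↔ r ∈ q := fun r => by simp [ψ, hker]
  have hs : ∀ s : p.primeCompl, ψ s ≠ 0 := fun s h => s.2 (hqp ((hψ _).mp h))
  have hb : b ∉ q := fun hb => nonZeroDivisors.ne_zero hB' (by
    rw [IsLocalization.mk'_eq_zero_iff, ← IsLocalization.map_eq_zero_iff p.primeCompl (Localization.AtPrime p)]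
    exact (hker _).mpr hb)
  have hxval : x * ψ (b * s₁) = ψ (a * s₂) := by
    have e1 := congrArg (algebraMap (Localization.AtPrime p) K) (IsLocalization.mk'_spec (Localization.AtPrime p) a s₁)
    have e2 := congrArg (algebraMap (Localization.AtPrime p) K) (IsLocalization.mk'_spec (Localization.AtPrime p) b s₂)
    simp only [map_mul] at e1 e2
    rw [← hx', map_mul, map_mul]
    simp only [ψ, RingHom.comp_apply]
    rw [← e1, ← e2]
    have : algebraMap (Localization.AtPrime p) K (IsLocalization.mk' _ b s₂) ≠ 0 :=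
      fun h0 => nonZeroDivisors.ne_zero hB' (IsFractionRing.injective _ K (h0.trans (map_zero _).symm))
    simp only [φ]
    rw [div_mul_eq_mul_div, div_eq_iff this]
    ring
  obtain ⟨P, hP, hPx⟩ := ht
  have hy : (t • x : K) = ψ t * x := by rw [Submonoid.smul_def, Algebra.smul_def, IsScalarTower.algebraMap_apply R (Localization.AtPrime p) K]; rfl
  set s := b * (s₁ : R)
  set a' := (t : R) * (a * s₂)
  have hsq : s ∉ q := fun h => (hq.1.1.mem_or_mem h).elim hb fun h => s₁.2 (hqp h)
  have hrel : (P.scaleRoots s).eval a' ∈ q := by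
    rw [← hψ, ← Polynomial.eval₂_at_apply]
    have h3 := scaleRoots_eval₂_mul (p := P) ψ (t • x) s
    rw [show ψ s * (t • x) = ψ a' from by rw [hy, mul_left_comm, mul_comm (ψ s), hxval, ← map_mul],
      show eval₂ ψ (t • x) P = 0 from by
        rw [show ψ = algebraMap R K from (IsScalarTower.algebraMap_eq R (Localization.AtPrime p) K).symm]; exact hPx,
      mul_zero] at h3
    exact h3
  have hdeg : 0 < P.natDegree := by
    by_contra h0
    rw [hP.natDegree_eq_zero.mp (Nat.eq_zero_of_not_pos h0), eval₂_one] at hPx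
    exact one_ne_zero hPx
  let s'' := s * (1 - e) + e
  let a'' := a' * (1 - e)
  let P' := P + C e * (X ^ P.natDegree - P)
  have hdegsub : (X ^ P.natDegree - P).degree < P.degree := by
    rcases subsingleton_or_nontrivial R with h | h
    · exact absurd (Subsingleton.elim s 0 ▸ q.zero_mem) hsq
    have hd : (X ^ P.natDegree : R[X]).degree = P.degree := by
      rw [degree_X_pow, degree_eq_natDegree hP.ne_zero]
    have hlc : (X ^ P.natDegree : R[X]).leadingCoeff = P.leadingCoeff := by
      rw [hP.leadingCoeff, leadingCoeff_X_pow]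
    exact (degree_sub_lt_left hd (monic_X_pow _).ne_zero hlc).trans_eq hd
  have hP' : P'.Monic := hP.add_of_left (((degree_mul_le _ _).trans (add_le_add degree_C_le le_rfl)).trans_lt (by rwa [zero_add]))
  have hdvd : s'' ∣ a'' := by
    refine dvd_of_R1_S2 h1 h2 (isUnit_or_mem_minimalPrimes_of_notMem fun q' hq' hmem => ?_) hP' ?_
    · rcases eq_or_ne q' q with rfl | hne
      · refine hsq ?_
        have : s = s'' - e * (1 - s) := by ring
        rw [this]
        exact q'.sub_mem hmem (q'.mul_mem_right _ heq)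
      · have : (1 : R) = s'' - (s - 1) * (1 - e) := by ring
        exact hq'.1.1.ne_top ((Ideal.eq_top_iff_one _).mpr
          (this ▸ q'.sub_mem hmem (q'.mul_mem_left _ (he q' hq' hne))))
    · refine eq_zero_of_forall_minimalPrimes fun q' hq' => ?_
      have := hq'.1.1
      rw [← Ideal.Quotient.eq_zero_iff_mem, map_eval_scaleRoots _ hP']
      set π := Ideal.Quotient.mk q'
      rcases eq_or_ne q' q with rfl | hne
      · have hπe : π e = 0 := Ideal.Quotient.eq_zero_iff_mem.mpr heq
        rw [show P'.map π = P.map π by simp [P', hπe], show π s'' = π s by simp [s'', hπe],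
          show π a'' = π a' by simp [a'', hπe], ← map_eval_scaleRoots _ hP]
        exact Ideal.Quotient.eq_zero_iff_mem.mpr hrel
      · have hπe : π e = 1 := by
          rw [eq_comm, ← sub_eq_zero, ← map_one π, ← map_sub, Ideal.Quotient.eq_zero_iff_mem]
          exact he q' hq' hne
        rw [show P'.map π = X ^ P.natDegree by simp [P', hπe], show π s'' = 1 by simp [s'', hπe],
          show π a'' = 0 by simp [a'', hπe], scaleRoots_one, eval_pow, eval_X, zero_pow hdeg.ne']
  obtain ⟨c, hc⟩ := hdvd
  have hψe : ψ e = 0 := (hψ e).mpr heq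
  have hcx : (t • x : K) = ψ c := by
    have h5 := congrArg ψ hc
    simp only [a'', s'', map_mul, map_sub, map_add, map_one, hψe, sub_zero, mul_one, add_zero] at h5
    have hs0 : ψ s ≠ 0 := fun h => hsq ((hψ s).mp h)
    rw [hy]
    refine mul_left_cancel₀ hs0 ?_
    rw [← h5, mul_left_comm, mul_comm (ψ s), hxval, ← map_mul]
  refine ⟨IsLocalization.mk' _ c t, mul_left_cancel₀ (hs t) ?_⟩
  rw [← hy, hcx]
  show algebraMap (Localization.AtPrime p) K (φ t) * _ = _
  rw [← map_mul, IsLocalization.mk'_spec']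
  rfl

end Groth.Agent.SerreLib
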